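import Groth.Agent.Lib.T1Lift3.Criterion
import Groth.Agent.Lib.CohenAlg3.Exists

/-!
# Lifting to Artinian rings and regularity
-/

set_option autoImplicit false
set_option backward.isDefEq.respectTransparency false
set_option linter.style.haveILetI false

universe u

open IsLocalRing

namespace Groth.Agent.RegLift12

/-- A surjective endomorphism of a Noetherian ring is injective. -/
theorem injective_of_surjective_endo {R : Type u} [CommRing R] [IsNoetherianRing R] (θ : R →+* R)
    (h : Function.Surjective θ) : Function.Injective θ := by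
  let a : ℕ →o Ideal R :=
    ⟨fun j => RingHom.ker (θ ^ j), monotone_nat_of_le_succ fun j x hx => by
      rw [RingHom.mem_ker] at hx ⊢
      rw [pow_succ', RingHom.mul_def, RingHom.comp_apply, hx, map_zero]⟩
  obtain ⟨N, hN⟩ := monotone_stabilizes_iff_noetherian.2 (inferInstance : IsNoetherianRing R) a
  refine (injective_iff_map_eq_zero θ).2 fun x hx => ?_
  obtain ⟨y, rfl⟩ := (show Function.Surjective (θ ^ N : R →+* R) by rw [RingHom.coe_pow]; exact h.iterate N) x
  have hy : y ∈ a (N + 1) := by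
    show y ∈ RingHom.ker (θ ^ (N + 1))
    rw [RingHom.mem_ker, pow_succ', RingHom.mul_def, RingHom.comp_apply, hx]
  rw [← hN (N + 1) (Nat.le_succ N)] at hy
  exact hy

/-- An endomorphism of `P/M^n` which is the identity modulo `M^2` is bijective: kernel form. -/
theorem ker_le_pow_of_congr {P : Type u} [CommRing P] [IsNoetherianRing P] (M : Ideal P) (n : ℕ)
    (θ : P →+* P ⧸ M ^ n) (hθ : ∀ x, θ x - Ideal.Quotient.mk (M ^ n) x ∈ (M ^ 2).map (Ideal.Quotient.mk (M ^ n))) :
    RingHom.ker θ ≤ M ^ n := by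
  set q := Ideal.Quotient.mk (M ^ n)
  have hq : ∀ j, ∀ x ∈ M ^ j, θ x - q x ∈ (M ^ (j + 1)).map q := by
    intro j
    induction j with
    | zero =>
      intro x _
      exact Ideal.map_mono (Ideal.pow_le_pow_right (by omega)) (hθ x)
    | succ j ih =>
      intro x hx
      rw [pow_succ] at hx
      induction hx using Submodule.mul_induction_on' with
      | mem_mul_mem a ha b hb =>
        have e : θ (a * b) - q (a * b) = (θ a - q a) * θ b + q a * (θ b - q b) := by
          rw [map_mul, map_mul]; ring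
        rw [e]
        have hθb : θ b ∈ M.map q := by
          have := Ideal.map_mono (Ideal.pow_le_self two_ne_zero) (hθ b)
          simpa using add_mem this (Ideal.mem_map_of_mem q hb)
        refine add_mem ?_ ?_
        · rw [pow_succ M (j + 1), Ideal.map_mul]
          exact Ideal.mul_mem_mul (ih a ha) hθb
        · rw [show j + 1 + 1 = j + 2 from rfl, pow_add, Ideal.map_mul]
          exact Ideal.mul_mem_mul (Ideal.mem_map_of_mem q ha) (hθ b)
      | add a _ b _ iha ihb =>
        rw [map_add, map_add, add_sub_add_comm]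
        exact add_mem iha ihb
  have happ : ∀ j, ∀ y : P, ∃ z : P, θ z - q y ∈ (M ^ j).map q := by
    intro j
    induction j with
    | zero => exact fun y => ⟨0, by rw [pow_zero, Ideal.one_eq_top, Ideal.map_top]; trivial⟩
    | succ j ih =>
      intro y
      obtain ⟨z, hz⟩ := ih y
      obtain ⟨w, hw, hwe⟩ := (Ideal.mem_map_iff_of_surjective q Ideal.Quotient.mk_surjective).1 hz
      refine ⟨z - w, ?_⟩
      have := neg_mem (hq j w hw)
      rw [map_sub, show θ z - θ w - q y = -(θ w - q w) + ((θ z - q y) - q w) by ring, ← hwe, sub_self, add_zero]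
      exact this
  have hker : M ^ n ≤ RingHom.ker θ := fun x hx => by
    have := hq n x hx
    rw [show q x = 0 from Ideal.Quotient.eq_zero_iff_mem.2 hx, sub_zero] at this
    have h0 : (M ^ (n + 1)).map q = ⊥ := (Ideal.map_eq_bot_iff_le_ker _).2
      (by rw [Ideal.mk_ker]; exact Ideal.pow_le_pow_right (Nat.le_succ n))
    rw [h0] at this
    exact this
  let θb := Ideal.Quotient.lift (M ^ n) θ fun a ha => hker ha
  have hs : Function.Surjective θb := fun y => by
    obtain ⟨y, rfl⟩ := Ideal.Quotient.mk_surjective y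
    obtain ⟨z, hz⟩ := happ n y
    rw [Ideal.map_quotient_self, Ideal.mem_bot, sub_eq_zero] at hz
    exact ⟨q z, hz⟩
  intro x hx
  exact Ideal.Quotient.eq_zero_iff_mem.1 (injective_of_surjective_endo θb hs
    (show θb (q x) = θb 0 by rw [map_zero]; exact hx))

variable {k A : Type u} [Field k] [CommRing A] [Algebra k A] [IsLocalRing A]

/-- The lifting property against Artinian local algebras. -/
def LiftsArt (k A : Type u) [Field k] [CommRing A] [Algebra k A] [IsLocalRing A] : Prop :=
  ∀ (R : Type u) [CommRing R] [Algebra k R] [IsArtinianRing R] [IsLocalRing R] (J : Ideal R),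
        J ^ 2 = ⊥ → ∀ f : A →ₐ[k] R ⧸ J, IsLocalHom (f : A →+* R ⧸ J) →
          ∃ g : A →ₐ[k] R, (Ideal.Quotient.mkₐ k J).comp g = f

variable {P : Type u} [CommRing P] [Algebra k P] [IsLocalRing P] [IsNoetherianRing P]

theorem ker_eq_bot_of_liftsArt (π : P →ₐ[k] A) (hπ : Function.Surjective π)
    (hJ : RingHom.ker π ≤ maximalIdeal P ^ 2) (h : LiftsArt k A) : RingHom.ker π = ⊥ := by
  set M := maximalIdeal P
  have hM1 : ∀ m, M ^ (m + 1) ≤ M := fun m => Ideal.pow_le_self (Nat.succ_ne_zero m)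
  have key : ∀ m : ℕ, ∃ ψ : A →ₐ[k] P ⧸ M ^ (m + 2), ∀ x,
      ψ (π x) - Ideal.Quotient.mk (M ^ (m + 2)) x ∈ (M ^ 2).map (Ideal.Quotient.mk (M ^ (m + 2))) := by
    intro m
    induction m with
    | zero =>
      refine ⟨(Ideal.Quotient.liftₐ _ (Ideal.Quotient.mkₐ k (M ^ 2))
        fun a ha => Ideal.Quotient.eq_zero_iff_mem.2 (hJ ha)).comp
          (Ideal.quotientKerAlgEquivOfSurjective hπ).symm.toAlgHom, fun x => ?_⟩
      rw [AlgHom.comp_apply, AlgEquiv.coe_toAlgHom,
        show (Ideal.quotientKerAlgEquivOfSurjective hπ).symm (π x) = Ideal.Quotient.mk _ x from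
          (AlgEquiv.symm_apply_eq _).2 rfl]
      show Ideal.Quotient.mk (M ^ 2) x - Ideal.Quotient.mk (M ^ 2) x ∈ _
      rw [sub_self]
      exact zero_mem _
    | succ m ih =>
      obtain ⟨ψ, hψ⟩ := ih
      haveI : Nontrivial (P ⧸ M ^ (m + 2)) :=
        Ideal.Quotient.nontrivial_iff.2 (ne_top_of_le_ne_top (maximalIdeal.isMaximal P).ne_top (hM1 (m + 1)))
      haveI : Nontrivial (P ⧸ M ^ (m + 1 + 2)) :=
        Ideal.Quotient.nontrivial_iff.2 (ne_top_of_le_ne_top (maximalIdeal.isMaximal P).ne_top (hM1 (m + 2)))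
      haveI : IsLocalRing (P ⧸ M ^ (m + 1 + 2)) :=
        IsLocalRing.of_surjective' (Ideal.Quotient.mk _) Ideal.Quotient.mk_surjective
      haveI : IsLocalRing (P ⧸ M ^ (m + 2)) :=
        IsLocalRing.of_surjective' (Ideal.Quotient.mk _) Ideal.Quotient.mk_surjective
      haveI : IsArtinianRing (P ⧸ M ^ (m + 1 + 2)) := by
        refine (IsLocalRing.quotient_artinian_of_mem_minimalPrimes_of_isLocalRing _ ?_)
        refine ⟨⟨inferInstance, hM1 (m + 2)⟩, fun p hp _ => hp.1.le_of_pow_le hp.2⟩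
      have hle : M ^ (m + 1 + 2) ≤ M ^ (m + 2) := Ideal.pow_le_pow_right (by omega)
      let J : Ideal (P ⧸ M ^ (m + 1 + 2)) := (M ^ (m + 2)).map (Ideal.Quotient.mkₐ k _)
      let e : ((P ⧸ M ^ (m + 1 + 2)) ⧸ J) ≃ₐ[k] P ⧸ M ^ (m + 2) := DoubleQuot.quotQuotEquivQuotOfLEₐ k hle
      have hJ2 : J ^ 2 = ⊥ := by
        refine (Ideal.map_pow _ _ _).symm.trans ((Ideal.map_eq_bot_iff_le_ker _).2 fun y hy => ?_)
        rw [RingHom.mem_ker]
        exact Ideal.Quotient.eq_zero_iff_mem.2 (Ideal.pow_le_pow_right (by omega) ((pow_mul M _ 2).ge hy))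
      have hloc : IsLocalHom ((e.symm.toAlgHom.comp ψ : A →ₐ[k] (P ⧸ M ^ (m + 1 + 2)) ⧸ J) : A →+* (P ⧸ M ^ (m + 1 + 2)) ⧸ J) := by
        constructor
        intro a ha
        obtain ⟨x, rfl⟩ := hπ a
        refine (notMem_maximalIdeal.1 fun hx => ?_ : IsUnit x).map π
        have h1 : IsUnit (e (e.symm (ψ (π x)))) := ha.map e
        rw [AlgEquiv.apply_symm_apply] at h1
        have h2 : ψ (π x) ∈ M.map (Ideal.Quotient.mk (M ^ (m + 2))) := by
          simpa using add_mem (Ideal.map_mono (Ideal.pow_le_self two_ne_zero) (hψ x))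
            (Ideal.mem_map_of_mem (Ideal.Quotient.mk (M ^ (m + 2))) hx)
        rw [map_maximalIdeal_of_surjective _ Ideal.Quotient.mk_surjective] at h2
        exact (mem_maximalIdeal _).1 h2 h1
      obtain ⟨g, hg⟩ := h _ J hJ2 (e.symm.toAlgHom.comp ψ) hloc
      refine ⟨g, fun x => ?_⟩
      obtain ⟨y, hy⟩ := Ideal.Quotient.mk_surjective (g (π x))
      have h1 : Ideal.Quotient.mk (M ^ (m + 2)) y = ψ (π x) := by
        have := congrArg e (AlgHom.congr_fun hg (π x))
        rw [AlgHom.comp_apply, AlgHom.comp_apply, AlgEquiv.coe_toAlgHom, AlgEquiv.apply_symm_apply, ← hy] at this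
        exact this
      have h2 := hψ x
      rw [← h1, ← map_sub, Ideal.mem_map_iff_of_surjective _ Ideal.Quotient.mk_surjective] at h2
      obtain ⟨w, hw, hwe⟩ := h2
      rw [← hy, ← map_sub]
      refine Ideal.mem_map_of_mem _ ?_
      have := Ideal.Quotient.eq.1 hwe
      have h3 : w - (y - x) ∈ M ^ 2 := Ideal.pow_le_pow_right (by omega) this
      simpa using sub_mem hw h3
  refine le_bot_iff.1 fun x hx => ?_
  have hall : ∀ m : ℕ, x ∈ M ^ m := fun m => by
    obtain ⟨ψ, hψ⟩ := key m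
    refine Ideal.pow_le_pow_right (by omega) (ker_le_pow_of_congr M (m + 2) ((ψ.comp π).toRingHom) hψ ?_)
    rw [RingHom.mem_ker]
    show ψ (π x) = 0
    rw [RingHom.mem_ker] at hx
    rw [hx, map_zero]
  rw [← Ideal.iInf_pow_eq_bot_of_isLocalRing (R := P) M (maximalIdeal.isMaximal P).ne_top]
  exact (Submodule.mem_iInf _).2 hall

variable {n : ℕ}

theorem liftsArt_of_algEquiv (e : MvPowerSeries (Fin n) k ≃ₐ[k] A) : LiftsArt k A := by
  intro R _ _ _ _ J hJ f hf
  choose z hz using fun i => Ideal.Quotient.mk_surjective (f (e (MvPowerSeries.X i)))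
  have hnilM : IsNilpotent (maximalIdeal R) := by
    rw [← IsLocalRing.jacobson_eq_maximalIdeal (⊥ : Ideal R) bot_ne_top]
    exact IsArtinianRing.isNilpotent_jacobson_bot
  obtain ⟨N, hN⟩ := hnilM
  have hnil : ∀ i, IsNilpotent (z i) := fun i => by
    refine ⟨N, (Submodule.mem_bot R).1 (hN.le (Ideal.pow_mem_pow ((mem_maximalIdeal _).2 fun hu => ?_) N))⟩
    have h1 : IsUnit ((f : A →+* R ⧸ J) (e (MvPowerSeries.X i))) := by
      show IsUnit (f (e (MvPowerSeries.X i)))
      rw [← hz i]; exact hu.map _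
    have h2 := (hf.map_nonunit _ h1).map e.symm
    rw [AlgEquiv.symm_apply_apply, MvPowerSeries.isUnit_iff_constantCoeff, MvPowerSeries.constantCoeff_X] at h2
    exact not_isUnit_zero h2
  obtain ⟨G, hG, -⟩ := AdicSmooth.exists_algHom_of_isNilpotent (A := k) z hnil
  have key : (Ideal.Quotient.mkₐ k J).comp G = f.comp e.toAlgHom := T1Lift3.eq_of_forall_X
    (fun i => by rw [AlgHom.comp_apply, hG]; exact (hnil i).map _)
    fun i => by rw [AlgHom.comp_apply, AlgHom.comp_apply, hG]; exact hz i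
  refine ⟨G.comp e.symm.toAlgHom, AlgHom.ext fun a => ?_⟩
  have := AlgHom.congr_fun key (e.symm a)
  simpa using this

theorem isRegularLocalRing_iff_liftsArt [IsNoetherianRing A] [IsAdicComplete (maximalIdeal A) A]
    (π : A →ₐ[k] k) : IsRegularLocalRing A ↔ LiftsArt k A := by
  let R0 : ArtFun.CRing k k :=
    { carrier := A, res := π, res_surjective := fun c => ⟨algebraMap k A c, π.commutes c⟩,
      isAdicComplete := ‹_› }
  obtain ⟨n, ψ₀, -, hs₀, hJ₀, -, -⟩ := ArtFunLib.exists_presentation R0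
  let ψ : MvPowerSeries (Fin n) k →ₐ[k] A := ψ₀
  have hs : Function.Surjective ψ := hs₀
  have hJ : RingHom.ker ψ ≤ maximalIdeal (MvPowerSeries (Fin n) k) ^ 2 := hJ₀
  haveI := H2Alg.PSHom.isRegularLocalRing k n
  constructor
  · intro hA
    have hd : ringKrullDim (MvPowerSeries (Fin n) k) = ringKrullDim A := by
      rw [← IsRegularLocalRing.spanFinrank_maximalIdeal (R := A),
        ← IsRegularLocalRing.spanFinrank_maximalIdeal (R := MvPowerSeries (Fin n) k),
        ArtFunLib.spanFinrank_eq_of_le_sq ψ.toRingHom hs hJ]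
    exact liftsArt_of_algEquiv (AlgEquiv.ofBijective ψ
      ⟨CohenAlg3.injective_of_surjective_regular ψ.toRingHom hs hd.le, hs⟩)
  · intro h
    exact IsRegularLocalRing.of_ringEquiv (RingEquiv.ofBijective ψ.toRingHom
      ⟨(RingHom.injective_iff_ker_eq_bot _).2 (ker_eq_bot_of_liftsArt ψ hs hJ h), hs⟩)

end Groth.Agent.RegLift12
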